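import Mathlib

/-!
# Integral vectors with the products of a dihedral block

`w j` (`1 ≤ j ≤ m`) are the multiplicities of the differences of induced characters and
`C = -w m + 2 ∑ (-1) ^ (j + 1) w j` never vanishes.
-/

set_option autoImplicit false

namespace Cfsg.Agent.Lib.DihedralDefect.Comb

open Finset

variable {ι : Type*} [Fintype ι] [DecidableEq ι]

/-- The hypotheses. -/
structure Data (m : ℕ) (w : ℕ → ι → ℤ) (C : ι → ℤ) : Prop where
  two_le : 2 ≤ m
  pow : ∃ k : ℕ, m = 2 ^ k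
  inner : ∀ i j, 1 ≤ i → i ≤ m → 1 ≤ j → j ≤ m →
    ∑ χ, w i χ * w j χ = 2 + if i = j then (if i = m then 2 else 1) else 0
  C_eq : ∀ χ, C χ = -w m χ + 2 * ∑ j ∈ Ico 1 m, (-1) ^ (j + 1) * w j χ
  C_ne : ∀ χ, C χ ≠ 0
  exists_odd : ∃ χ, Odd (C χ)

theorem abs_le_one {f : ι → ℤ} {n : ℤ} (hn : n ≤ 3) (h : ∑ χ, f χ * f χ = n) (χ : ι) :
    f χ = 0 ∨ f χ = 1 ∨ f χ = -1 := by
  have h1 : f χ * f χ ≤ n :=
    h ▸ single_le_sum (fun x _ => mul_self_nonneg (f x)) (mem_univ χ)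
  have h2 : f χ ≤ 1 := by nlinarith
  have h3 : -1 ≤ f χ := by nlinarith
  omega

namespace Data

variable {m : ℕ} {w : ℕ → ι → ℤ} {C : ι → ℤ} (h : Data m w C)
include h

theorem odd_iff (χ : ι) : Odd (C χ) ↔ Odd (w m χ) := by
  rw [h.C_eq, Int.odd_add, odd_neg]
  simp

theorem wm_pm (χ : ι) : w m χ = 0 ∨ w m χ = 1 ∨ w m χ = -1 := by
  obtain ⟨χ₀, h₀⟩ := h.exists_odd
  rw [h.odd_iff] at h₀
  have hs : ∑ x, w m x * w m x = 4 := by
    rw [h.inner m m (by have := h.two_le; omega) le_rfl (by have := h.two_le; omega) le_rfl]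
    simp
  have hb : ∀ x, w m x * w m x ≤ 4 := fun x =>
    hs ▸ single_le_sum (fun y _ => mul_self_nonneg (w m y)) (mem_univ x)
  have hlt : ∀ x, w m x ≤ 2 ∧ -2 ≤ w m x := fun x =>
    ⟨by nlinarith [hb x], by nlinarith [hb x]⟩
  rcases (show w m χ = 0 ∨ w m χ = 1 ∨ w m χ = -1 ∨ w m χ = 2 ∨ w m χ = -2 by
    have := hlt χ; omega) with h1 | h1 | h1 | h1
  · exact Or.inl h1
  · exact Or.inr (Or.inl h1)
  · exact Or.inr (Or.inr h1)
  · exfalso
    have hne : χ ≠ χ₀ := by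
      rintro rfl
      rcases h1 with h1 | h1 <;> rw [h1] at h₀ <;> exact absurd h₀ (by decide)
    have h2 : ∑ x ∈ ({χ, χ₀} : Finset ι), w m x * w m x ≤ 4 :=
      hs ▸ sum_le_univ_sum_of_nonneg fun y => mul_self_nonneg (w m y)
    rw [sum_pair hne] at h2
    have h3 : w m χ₀ ≠ 0 := fun e => by rw [e] at h₀; simp at h₀
    rcases h1 with h1 | h1 <;> rw [h1] at h2 <;> nlinarith [mul_self_pos.mpr h3]

/-- The characters of height zero. -/
def T (_h : Data m w C) : Finset ι := univ.filter fun χ => w m χ ≠ 0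

theorem mem_T {χ : ι} : χ ∈ h.T ↔ w m χ ≠ 0 := by simp [T]

theorem sq_T {χ : ι} (hχ : χ ∈ h.T) : w m χ * w m χ = 1 := by
  rcases h.wm_pm χ with h1 | h1 | h1
  · exact absurd h1 (h.mem_T.mp hχ)
  · rw [h1]; norm_num
  · rw [h1]; norm_num

theorem mem_T_iff_odd {χ : ι} : χ ∈ h.T ↔ Odd (C χ) := by
  rw [h.odd_iff, h.mem_T]
  rcases h.wm_pm χ with h1 | h1 | h1 <;> rw [h1] <;> simp

theorem card_T : h.T.card = 4 := by
  have h1 : ∑ x, w m x * w m x = 4 := by
    rw [h.inner m m (by have := h.two_le; omega) le_rfl (by have := h.two_le; omega) le_rfl]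
    simp
  rw [← sum_filter_add_sum_filter_not univ (fun χ => w m χ ≠ 0)] at h1
  rw [sum_congr rfl (fun χ hχ => h.sq_T (by simpa [T] using hχ)),
    sum_eq_zero (s := univ.filter fun χ => ¬w m χ ≠ 0) fun χ hχ => by
      rw [not_not.mp (mem_filter.mp hχ).2, mul_zero]] at h1
  simp [T] at h1 ⊢
  exact_mod_cast h1

/-- The pair of `w j` inside `T`. -/
def P (h : Data m w C) (j : ℕ) : Finset ι := h.T.filter fun χ => w j χ ≠ 0

theorem P_subset (j : ℕ) : h.P j ⊆ h.T := filter_subset _ _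

theorem shape {j : ℕ} (hj : 1 ≤ j) (hj' : j < m) :
    (h.P j).card = 2 ∧ (∀ χ ∈ h.T, w j χ = if χ ∈ h.P j then w m χ else 0) ∧
      ∃ g, g ∉ h.T ∧ (w j g = 1 ∨ w j g = -1) ∧ ∀ χ ∉ h.T, χ ≠ g → w j χ = 0 := by
  have hs : ∑ χ, w j χ * w j χ = 3 := by
    rw [h.inner j j hj hj'.le hj hj'.le, if_pos rfl, if_neg hj'.ne]
    norm_num
  have hpm := abs_le_one le_rfl hs
  have ha : ∑ χ ∈ h.T, w m χ * w j χ = 2 := by
    rw [sum_subset (subset_univ _) fun χ _ hχ => by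
        rw [not_not.mp (mt h.mem_T.mpr hχ), zero_mul],
      h.inner m j (by have := h.two_le; omega) le_rfl hj hj'.le, if_neg (by omega), add_zero]
  rw [← sum_add_sum_compl h.T] at hs
  have hout : 0 ≤ ∑ χ ∈ h.Tᶜ, w j χ * w j χ := sum_nonneg fun χ _ => mul_self_nonneg _
  have hterm : ∀ χ ∈ h.T, w j χ * w j χ - w m χ * w j χ = 0 ∨
      w j χ * w j χ - w m χ * w j χ = 2 := by
    intro χ hχ
    rcases h.wm_pm χ with h1 | h1 | h1
    · exact absurd h1 (h.mem_T.mp hχ)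
    all_goals rcases hpm χ with h2 | h2 | h2 <;> rw [h1, h2] <;> norm_num
  have hzero : ∀ χ ∈ h.T, w j χ * w j χ - w m χ * w j χ = 0 := by
    intro χ hχ
    rcases hterm χ hχ with h1 | h1
    · exact h1
    · exfalso
      have h2 : (2 : ℤ) ≤ ∑ y ∈ h.T, (w j y * w j y - w m y * w j y) :=
        h1 ▸ single_le_sum (f := fun y => w j y * w j y - w m y * w j y)
          (fun y hy => by rcases hterm y hy with e | e <;> simp only [e] <;> norm_num) hχ
      rw [sum_sub_distrib, ha] at h2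
      linarith
  have hval : ∀ χ ∈ h.T, w j χ = if χ ∈ h.P j then w m χ else 0 := by
    intro χ hχ
    split_ifs with hP
    · have h0 : w j χ ≠ 0 := (mem_filter.mp hP).2
      have := hzero χ hχ
      rw [← sub_mul, mul_eq_zero] at this
      rcases this with h1 | h1
      · linarith
      · exact absurd h1 h0
    · exact not_not.mp fun h0 => hP (mem_filter.mpr ⟨hχ, h0⟩)
  have hT : ∑ χ ∈ h.T, w j χ * w j χ = 2 := by
    rw [← ha]
    exact sum_congr rfl fun χ hχ => by linarith [hzero χ hχ]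
  have hcard : ((h.P j).card : ℤ) = 2 := by
    rw [← hT, P, card_eq_sum_ones, Nat.cast_sum, sum_filter]
    refine sum_congr rfl fun χ hχ => ?_
    rcases hpm χ with h2 | h2 | h2 <;> rw [h2] <;> simp
  have hout1 : ∑ χ ∈ h.Tᶜ, w j χ * w j χ = 1 := by linarith
  obtain ⟨g, hg, hg0⟩ := exists_ne_zero_of_sum_ne_zero
    (by rw [hout1]; norm_num : ∑ χ ∈ h.Tᶜ, w j χ * w j χ ≠ 0)
  refine ⟨by exact_mod_cast hcard, hval, g, mem_compl.mp hg,
    (hpm g).resolve_left fun e => hg0 (by rw [e, mul_zero]), fun χ hχ hne => ?_⟩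
  by_contra h0
  have h2 : ∑ y ∈ ({g, χ} : Finset ι), w j y * w j y ≤ ∑ y ∈ h.Tᶜ, w j y * w j y :=
    sum_le_sum_of_subset_of_nonneg (fun y hy => by
      simp only [mem_insert, mem_singleton] at hy
      rcases hy with rfl | rfl
      · exact hg
      · exact mem_compl.mpr hχ) fun y _ _ => mul_self_nonneg _
  rw [sum_pair (Ne.symm hne), hout1] at h2
  nlinarith [mul_self_pos.mpr h0, mul_self_pos.mpr (left_ne_zero_of_mul hg0)]

/-- The member of `w j` outside `T`. -/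
noncomputable def out (h : Data m w C) (j : ℕ) : ι :=
  if hj : 1 ≤ j ∧ j < m then (h.shape hj.1 hj.2).2.2.choose else h.exists_odd.choose

theorem out_spec {j : ℕ} (hj : 1 ≤ j) (hj' : j < m) :
    h.out j ∉ h.T ∧ (w j (h.out j) = 1 ∨ w j (h.out j) = -1) ∧
      ∀ χ ∉ h.T, χ ≠ h.out j → w j χ = 0 := by
  rw [out, dif_pos ⟨hj, hj'⟩]
  exact (h.shape hj hj').2.2.choose_spec

theorem inter_add {i j : ℕ} (hi : 1 ≤ i) (hi' : i < m) (hj : 1 ≤ j) (hj' : j < m) (hne : i ≠ j) :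
    ((h.P i ∩ h.P j).card : ℤ) +
      (if h.out i = h.out j then w i (h.out i) * w j (h.out i) else 0) = 2 := by
  have h1 : ∑ χ, w i χ * w j χ = 2 := by
    rw [h.inner i j hi hi'.le hj hj'.le, if_neg hne, add_zero]
  rw [← sum_add_sum_compl h.T] at h1
  have e1 : ∑ χ ∈ h.T, w i χ * w j χ = ((h.P i ∩ h.P j).card : ℤ) := by
    rw [card_eq_sum_ones, Nat.cast_sum]
    refine (sum_subset_zero_on_sdiff (inter_subset_left.trans (h.P_subset i)) (fun χ hχ => ?_)
      fun χ hχ => ?_).symm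
    · obtain ⟨hT, hn⟩ := mem_sdiff.mp hχ
      rw [(h.shape hi hi').2.1 χ hT, (h.shape hj hj').2.1 χ hT]
      split_ifs with h1 h2 <;> simp_all
    · obtain ⟨h2, h3⟩ := mem_inter.mp hχ
      have hT := h.P_subset i h2
      rw [(h.shape hi hi').2.1 χ hT, (h.shape hj hj').2.1 χ hT, if_pos h2, if_pos h3, h.sq_T hT]
      simp
  have e2 : ∑ χ ∈ h.Tᶜ, w i χ * w j χ =
      if h.out i = h.out j then w i (h.out i) * w j (h.out i) else 0 := by
    rw [sum_eq_single_of_mem (h.out i) (mem_compl.mpr (h.out_spec hi hi').1) fun χ hχ hn => by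
      rw [(h.out_spec hi hi').2.2 χ (mem_compl.mp hχ) hn, zero_mul]]
    split_ifs with he
    · rfl
    · rw [(h.out_spec hj hj').2.2 _ (h.out_spec hi hi').1 he, mul_zero]
  linarith

theorem eq_of_out_ne {i j : ℕ} (hi : 1 ≤ i) (hi' : i < m) (hj : 1 ≤ j) (hj' : j < m)
    (hne : h.out i ≠ h.out j) : h.P i = h.P j := by
  have h1 := h.inter_add hi hi' hj hj' (fun e => hne (e ▸ rfl))
  rw [if_neg hne, add_zero] at h1
  have h2 : (h.P i ∩ h.P j).card = 2 := by exact_mod_cast h1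
  exact (eq_of_subset_of_card_le (inter_subset_left : h.P i ∩ h.P j ⊆ h.P i)
      (by rw [h2, (h.shape hi hi').1])).symm.trans
    (eq_of_subset_of_card_le (inter_subset_right : h.P i ∩ h.P j ⊆ h.P j)
      (by rw [h2, (h.shape hj hj').1]))

theorem of_out_eq {i j : ℕ} (hi : 1 ≤ i) (hi' : i < m) (hj : 1 ≤ j) (hj' : j < m) (hne : i ≠ j)
    (he : h.out i = h.out j) :
    (h.P i ∩ h.P j).card = 1 ∧ w i (h.out i) = w j (h.out j) := by
  have h1 := h.inter_add hi hi' hj hj' hne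
  have hc : (h.P i ∩ h.P j).card ≤ 2 :=
    (card_le_card inter_subset_left).trans (h.shape hi hi').1.le
  rw [if_pos he] at h1
  have hi1 := (h.out_spec hi hi').2.1
  have hj1 := (h.out_spec hj hj').2.1
  rw [← he] at hj1 ⊢
  rcases hi1 with e | e <;> rcases hj1 with e' | e' <;> rw [e, e'] at h1 ⊢ <;> omega

theorem exists_out {χ : ι} (hχ : χ ∉ h.T) : ∃ j ∈ Ico 1 m, h.out j = χ := by
  by_contra hno
  push Not at hno
  refine h.C_ne χ ?_
  rw [h.C_eq, not_not.mp (mt h.mem_T.mpr hχ), sum_eq_zero fun j hj => ?_]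
  · simp
  · rw [(h.out_spec (mem_Ico.mp hj).1 (mem_Ico.mp hj).2).2.2 χ hχ (Ne.symm (hno j hj)), mul_zero]

/-- Distinct `out`: the generic shape. -/
theorem generic (hinj : Set.InjOn h.out (Ico 1 m : Finset ℕ)) :
    Fintype.card ι = m + 3 ∧ (∀ χ ∉ h.T, C χ = 2 ∨ C χ = -2) ∧
      ∀ g : ℕ → ℂ, (∀ χ, ∑ j ∈ Icc 1 m, g j * (w j χ : ℂ) = 0) → ∀ j ∈ Icc 1 m, g j = 0 := by
  have hoff : ∀ j ∈ Ico 1 m, ∀ i ∈ Ico 1 m, i ≠ j → w i (h.out j) = 0 := by
    intro j hj i hi hne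
    exact (h.out_spec (mem_Ico.mp hi).1 (mem_Ico.mp hi).2).2.2 _
      (h.out_spec (mem_Ico.mp hj).1 (mem_Ico.mp hj).2).1 fun e => hne (hinj hi hj e.symm)
  have hm0 : ∀ j ∈ Ico 1 m, w m (h.out j) = 0 := fun j hj =>
    not_not.mp (mt h.mem_T.mpr (h.out_spec (mem_Ico.mp hj).1 (mem_Ico.mp hj).2).1)
  refine ⟨?_, fun χ hχ => ?_, fun g hg => ?_⟩
  · have e : h.Tᶜ = (Ico 1 m).image h.out := by
      ext χ
      rw [mem_compl, mem_image]
      refine ⟨h.exists_out, ?_⟩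
      rintro ⟨j, hj, rfl⟩
      exact (h.out_spec (mem_Ico.mp hj).1 (mem_Ico.mp hj).2).1
    have := card_add_card_compl h.T
    rw [e, card_image_of_injOn hinj, h.card_T, Nat.card_Ico] at this
    have := h.two_le
    omega
  · obtain ⟨j, hj, rfl⟩ := h.exists_out hχ
    rw [h.C_eq, hm0 j hj, sum_eq_single_of_mem j hj fun i hi hne => by
      rw [hoff j hj i hi hne, mul_zero]]
    rcases (h.out_spec (mem_Ico.mp hj).1 (mem_Ico.mp hj).2).2.1 with e | e <;> rw [e] <;>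
      rcases neg_one_pow_eq_or ℤ (j + 1) with e' | e' <;> rw [e'] <;> norm_num
  · have h2 := h.two_le
    have hsmall : ∀ j ∈ Ico 1 m, g j = 0 := by
      intro j hj
      have hj' : j ∈ Icc 1 m := Ico_subset_Icc_self hj
      have h1 := hg (h.out j)
      rw [sum_eq_single_of_mem j hj' fun i hi hne => by
        rcases eq_or_ne i m with rfl | him
        · rw [hm0 j hj, Int.cast_zero, mul_zero]
        · rw [hoff j hj i (by simp only [mem_Ico, mem_Icc] at hi ⊢; omega) hne, Int.cast_zero,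
            mul_zero]] at h1
      refine (mul_eq_zero.mp h1).resolve_right ?_
      rcases (h.out_spec (mem_Ico.mp hj).1 (mem_Ico.mp hj).2).2.1 with e | e <;> rw [e] <;>
        norm_num
    intro j hj
    rcases eq_or_ne j m with rfl | hjm
    · obtain ⟨χ, hχ⟩ := card_pos.mp (by rw [h.card_T]; norm_num : 0 < h.T.card)
      have h1 := hg χ
      rw [sum_eq_single_of_mem j hj fun i hi hne => by
        rw [hsmall i (by simp only [mem_Ico, mem_Icc] at hi ⊢; omega), zero_mul]] at h1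
      exact (mul_eq_zero.mp h1).resolve_right (Int.cast_ne_zero.mpr (h.mem_T.mp hχ))
    · exact hsmall j (by simp only [mem_Ico, mem_Icc] at hj ⊢; omega)

/-- Otherwise all `out` coincide and `m = 4`. -/
theorem special (hinj : ¬ Set.InjOn h.out (Ico 1 m : Finset ℕ)) :
    m = 4 ∧ ∀ i ∈ Ico 1 m, ∀ j ∈ Ico 1 m,
      h.out i = h.out j ∧ (i ≠ j → (h.P i ∩ h.P j).card = 1) := by
  simp only [Set.InjOn, not_forall, exists_prop, mem_coe] at hinj
  obtain ⟨i₀, hi₀, j₀, hj₀, he, hne⟩ := hinj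
  rw [mem_Ico] at hi₀ hj₀
  have hP0 := (h.of_out_eq hi₀.1 hi₀.2 hj₀.1 hj₀.2 hne he).1
  have hall : ∀ l ∈ Ico 1 m, h.out l = h.out i₀ := by
    intro l hl
    simp only [mem_Ico] at hl
    by_contra hn
    have e1 := h.eq_of_out_ne hl.1 hl.2 hi₀.1 hi₀.2 hn
    have e2 := h.eq_of_out_ne hl.1 hl.2 hj₀.1 hj₀.2 (he ▸ hn)
    rw [← e1, ← e2, inter_self, (h.shape hl.1 hl.2).1] at hP0
    omega
  have hout : ∀ i ∈ Ico 1 m, ∀ j ∈ Ico 1 m,
      h.out i = h.out j ∧ (i ≠ j → (h.P i ∩ h.P j).card = 1) := by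
    intro i hi j hj
    have e := (hall i hi).trans (hall j hj).symm
    exact ⟨e, fun hij => (h.of_out_eq (mem_Ico.mp hi).1 (mem_Ico.mp hi).2 (mem_Ico.mp hj).1
      (mem_Ico.mp hj).2 hij e).1⟩
  refine ⟨?_, hout⟩
  -- pairwise meeting pairs in a set of four
  obtain ⟨t₀, ht₀⟩ := card_pos.mp (by rw [h.card_T]; norm_num : 0 < h.T.card)
  let f : ℕ → Finset ι := fun j => if t₀ ∈ h.P j then h.P j else h.T \ h.P j
  have hf : ∀ j ∈ Ico 1 m, t₀ ∈ f j ∧ f j ⊆ h.T ∧ (f j).card = 2 := by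
    intro j hj
    have hc := (h.shape (mem_Ico.mp hj).1 (mem_Ico.mp hj).2).1
    by_cases ht : t₀ ∈ h.P j
    · simp only [f, if_pos ht]; exact ⟨ht, h.P_subset j, hc⟩
    · simp only [f, if_neg ht]
      refine ⟨mem_sdiff.mpr ⟨ht₀, ht⟩, sdiff_subset, ?_⟩
      rw [card_sdiff_of_subset (h.P_subset j), h.card_T, hc]
  have hsub : (Ico 1 m).image f ⊆ (h.T.powersetCard 2).filter (t₀ ∈ ·) := by
    intro s hs
    obtain ⟨j, hj, rfl⟩ := mem_image.mp hs
    exact mem_filter.mpr ⟨mem_powersetCard.mpr ⟨(hf j hj).2.1, (hf j hj).2.2⟩, (hf j hj).1⟩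
  have hinjf : Set.InjOn f (Ico 1 m : Finset ℕ) := by
    intro i hi j hj e
    by_contra hij
    have h1 := (hout i hi j hj).2 hij
    have hi' := h.P_subset i
    have hj' := h.P_subset j
    have hci := (h.shape (mem_Ico.mp hi).1 (mem_Ico.mp hi).2).1
    simp only [f] at e
    split_ifs at e with a b
    · rw [e, inter_self, ← e, hci] at h1; omega
    · rw [e, sdiff_inter_self] at h1; simp at h1
    · rw [← e, inter_sdiff_self] at h1; simp at h1
    · have e' : h.P i = h.P j := by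
        rw [← Finset.sdiff_sdiff_eq_self hi', e, Finset.sdiff_sdiff_eq_self hj']
      rw [e', inter_self, ← e', hci] at h1; omega
  have hcard := card_le_card hsub
  rw [card_image_of_injOn hinjf, Nat.card_Ico] at hcard
  have h3 : ((h.T.powersetCard 2).filter (t₀ ∈ ·)).card ≤ 3 := by
    refine (card_le_card (t := (h.T.erase t₀).image fun t => {t₀, t}) ?_).trans
      (card_image_le.trans ?_)
    · intro s hs
      obtain ⟨hs1, hs2⟩ := mem_filter.mp hs
      obtain ⟨hs3, hs4⟩ := mem_powersetCard.mp hs1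
      obtain ⟨a, b, hab, rfl⟩ := card_eq_two.mp hs4
      simp only [mem_insert, mem_singleton] at hs2
      simp only [insert_subset_iff, singleton_subset_iff] at hs3
      rcases hs2 with rfl | rfl
      · exact mem_image.mpr ⟨b, mem_erase.mpr ⟨hab.symm, hs3.2⟩, rfl⟩
      · exact mem_image.mpr ⟨a, mem_erase.mpr ⟨hab, hs3.1⟩, pair_comm _ _⟩
    · rw [card_erase_of_mem ht₀, h.card_T]
  have h2 := h.two_le
  obtain ⟨k, hk⟩ := h.pow
  have hm2 : m ≠ 2 := by rintro rfl; omega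
  rcases k with _ | _ | _ | k
  · simp at hk; omega
  · simp at hk; omega
  · simpa using hk
  · exfalso
    have : 8 ≤ 2 ^ (k + 1 + 1 + 1) := by
      calc 8 = 2 ^ 3 := rfl
        _ ≤ 2 ^ (k + 1 + 1 + 1) := Nat.pow_le_pow_right (by norm_num) (by omega)
    omega

end Data

end Cfsg.Agent.Lib.DihedralDefect.Comb
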