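import Mathlib
import Cfsg.Agent.Lib.DihedralDefect.Comb

/-!
# The exceptional shape for `m = 4`

All three `w j` have the same member outside `T`; the sum that enters the congruence is computed
from the degree relations.
-/

set_option autoImplicit false

namespace Cfsg.Agent.Lib.DihedralDefect.Comb

open Finset

variable {ι : Type*} [Fintype ι] [DecidableEq ι]

/-- The sum in the star case. -/
theorem star_sum {r : ℂ} (hr : r ^ 2 = 2) {ap aq as' at' σ dp dq ds dt dg : ℂ} (hp : ap ^ 2 = 1)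
    (hq : aq ^ 2 = 1) (hs : as' ^ 2 = 1) (ht : at' ^ 2 = 1) (hp0 : dp ≠ 0) (hq0 : dq ≠ 0)
    (hs0 : ds ≠ 0) (ht0 : dt ≠ 0) (e0 : ap * dp + aq * dq + as' * ds + at' * dt = 0)
    (e1 : ap * dp + aq * dq + σ * dg = 0) (e2 : ap * dp + at' * dt + σ * dg = 0)
    (e3 : ap * dp + as' * ds + σ * dg = 0) :
    (ap + r * (ap - ap)) ^ 2 * (-ap + 2 * ap) / dp + (aq + r * (0 - aq)) ^ 2 * (-aq + 2 * 0) / dq +
      (as' + r * (as' - 0)) ^ 2 * (-as' + 2 * 0) / ds +
      (at' + r * (0 - 0)) ^ 2 * (-at' + 2 * at') / dt +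
      (0 + r * (σ - σ)) ^ 2 * (0 + 2 * σ) / dg = -16 * aq / (3 * dq) := by
  have f1 : ap * dp = -(3 * (aq * dq)) := by linear_combination e0 + 2 * e1 - e2 - e3
  have f2 : as' * ds = aq * dq := by linear_combination e3 - e1
  have f3 : at' * dt = aq * dq := by linear_combination e2 - e1
  have hne : ∀ {a d : ℂ}, a ^ 2 = 1 → a = d → a ≠ 0 := fun h _ e => by simp [e] at h
  have h1 : dp = -(3 * (ap * aq * dq)) := by linear_combination ap * f1 - dp * hp
  have h2 : ds = as' * aq * dq := by linear_combination as' * f2 - ds * hs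
  have h3 : dt = at' * aq * dq := by linear_combination at' * f3 - dt * ht
  have nap : ap ≠ 0 := hne hp rfl
  have naq : aq ≠ 0 := hne hq rfl
  have nas : as' ≠ 0 := hne hs rfl
  have nat : at' ≠ 0 := hne ht rfl
  simp only [sub_self, mul_zero, add_zero, zero_sub, sub_zero, zero_pow two_ne_zero, zero_mul,
    zero_div, h1, h2, h3]
  field_simp
  linear_combination (16 + (aq ^ 2 + 1) * (-3 + 6 * r - 3 * r ^ 2)) * hq +
    (-3 - 6 * r - 3 * r ^ 2) * hs + 3 * ht - 6 * hr - hp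

/-- The sum in the triangle case. -/
theorem triangle_sum {r : ℂ} (hr : r ^ 2 = 2) {ap aq as' at' σ dp dq ds dt dg : ℂ}
    (hp : ap ^ 2 = 1) (hq : aq ^ 2 = 1) (hs : as' ^ 2 = 1) (ht : at' ^ 2 = 1) (hp0 : dp ≠ 0)
    (hq0 : dq ≠ 0) (hs0 : ds ≠ 0) (ht0 : dt ≠ 0)
    (e0 : ap * dp + aq * dq + as' * ds + at' * dt = 0)
    (e1 : ap * dp + aq * dq + σ * dg = 0) (e2 : aq * dq + as' * ds + σ * dg = 0)
    (e3 : ap * dp + as' * ds + σ * dg = 0) :
    (ap + r * (ap - ap)) ^ 2 * (-ap + 2 * 0) / dp + (aq + r * (0 - aq)) ^ 2 * (-aq + 2 * aq) / dq +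
      (as' + r * (as' - 0)) ^ 2 * (-as' + 2 * as') / ds +
      (at' + r * (0 - 0)) ^ 2 * (-at' + 2 * 0) / dt +
      (0 + r * (σ - σ)) ^ 2 * (0 + 2 * σ) / dg = 16 * aq / (3 * dq) := by
  have f1 : ap * dp = aq * dq := by linear_combination e3 - e2
  have f2 : as' * ds = aq * dq := by linear_combination e3 - e1
  have f3 : at' * dt = -(3 * (aq * dq)) := by linear_combination e0 - f1 - f2
  have hne : ∀ {a : ℂ}, a ^ 2 = 1 → a ≠ 0 := fun h e => by simp [e] at h
  have h1 : dp = ap * aq * dq := by linear_combination ap * f1 - dp * hp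
  have h2 : ds = as' * aq * dq := by linear_combination as' * f2 - ds * hs
  have h3 : dt = -(3 * (at' * aq * dq)) := by linear_combination at' * f3 - dt * ht
  have nap : ap ≠ 0 := hne hp
  have naq : aq ≠ 0 := hne hq
  have nas : as' ≠ 0 := hne hs
  have nat : at' ≠ 0 := hne ht
  simp only [sub_self, mul_zero, add_zero, zero_sub, sub_zero, zero_pow two_ne_zero, zero_mul,
    zero_div, h1, h2, h3]
  field_simp
  linear_combination ((-16 : ℂ) + (aq ^ 2 + 1) * (3 - 6 * r + 3 * r ^ 2)) * hq +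
    (3 + 6 * r + 3 * r ^ 2) * hs - 3 * hp + ht + 6 * hr

/-- A set of four elements split by two pairs with one common member. -/
theorem split_four {T P Q : Finset ι} (hT : T.card = 4) (hP : P ⊆ T) (hQ : Q ⊆ T)
    (hPc : P.card = 2) (hQc : Q.card = 2) (hPQ : (P ∩ Q).card = 1) :
    ∃ p q s t, p ≠ q ∧ p ≠ s ∧ p ≠ t ∧ q ≠ s ∧ q ≠ t ∧ s ≠ t ∧
      P = {p, q} ∧ Q = {p, s} ∧ T = {p, q, s, t} := by
  obtain ⟨p, hp⟩ := card_eq_one.mp hPQ
  have hpm : p ∈ P ∧ p ∈ Q := mem_inter.mp (hp ▸ mem_singleton_self p)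
  obtain ⟨q, hq⟩ := card_eq_one.mp (show (P.erase p).card = 1 by rw [card_erase_of_mem hpm.1, hPc])
  obtain ⟨s, hs⟩ := card_eq_one.mp (show (Q.erase p).card = 1 by rw [card_erase_of_mem hpm.2, hQc])
  have hP' : P = {p, q} := by rw [← insert_erase hpm.1, hq]
  have hQ' : Q = {p, s} := by rw [← insert_erase hpm.2, hs]
  have hqm : q ≠ p ∧ q ∈ P := mem_erase.mp (hq ▸ mem_singleton_self q)
  have hsm : s ≠ p ∧ s ∈ Q := mem_erase.mp (hs ▸ mem_singleton_self s)
  have hqs : q ≠ s := by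
    rintro rfl
    exact hqm.1 (mem_singleton.mp (hp ▸ mem_inter.mpr ⟨hqm.2, hsm.2⟩))
  have hsub : ({p, q, s} : Finset ι) ⊆ T := by
    simp only [insert_subset_iff, singleton_subset_iff]
    exact ⟨hP hpm.1, hP hqm.2, hQ hsm.2⟩
  have hc3 : ({p, q, s} : Finset ι).card = 3 :=
    card_eq_three.mpr ⟨p, q, s, hqm.1.symm, hsm.1.symm, hqs, rfl⟩
  obtain ⟨t, ht⟩ := card_eq_one.mp
    (show (T \ {p, q, s}).card = 1 by rw [card_sdiff_of_subset hsub, hT, hc3])
  have htm := mem_sdiff.mp (ht ▸ mem_singleton_self t)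
  simp only [mem_insert, mem_singleton, not_or] at htm
  refine ⟨p, q, s, t, hqm.1.symm, hsm.1.symm, Ne.symm htm.2.1, hqs, Ne.symm htm.2.2.1,
    Ne.symm htm.2.2.2, hP', hQ', ?_⟩
  rw [← sdiff_union_of_subset hsub, ht]
  ext y
  simp only [mem_union, mem_insert, mem_singleton]
  tauto

set_option maxHeartbeats 800000 in
/-- The sum entering the congruence. -/
theorem Data.special_sum {w : ℕ → ι → ℤ} {C : ι → ℤ} (h : Data 4 w C)
    (hinj : ¬ Set.InjOn h.out (Ico 1 4 : Finset ℕ)) {d : ι → ℂ} (hd : ∀ χ, d χ ≠ 0)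
    (hrel : ∀ j, 1 ≤ j → j ≤ 4 → ∑ χ, (w j χ : ℂ) * d χ = 0) {r : ℂ} (hr : r ^ 2 = 2) :
    ∃ t ∈ h.T, ∃ e : ℂ, (e = 1 ∨ e = -1) ∧
      ∑ χ, ((w 4 χ : ℂ) + r * ((w 3 χ : ℂ) - (w 1 χ : ℂ))) ^ 2 *
        (-(w 4 χ : ℂ) + 2 * (w 2 χ : ℂ)) / d χ = e * 16 / (3 * d t) := by
  obtain ⟨-, hout⟩ := h.special hinj
  have m1 : (1 : ℕ) ∈ Ico 1 4 := by simp
  have m2 : (2 : ℕ) ∈ Ico 1 4 := by simp
  have m3 : (3 : ℕ) ∈ Ico 1 4 := by simp
  have s1 := h.shape le_rfl (by norm_num)
  have s2 := h.shape (j := 2) (by norm_num) (by norm_num)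
  have s3 := h.shape (j := 3) (by norm_num) (by norm_num)
  obtain ⟨p, q, s, t, hpq, hps, hpt, hqs, hqt, hst, hP1, hP3, hT⟩ := split_four h.card_T
    (h.P_subset 1) (h.P_subset 3) s1.1 s3.1 ((hout 1 m1 3 m3).2 (by norm_num))
  set g := h.out 1 with hg
  have o1 := h.out_spec le_rfl (show 1 < 4 by norm_num)
  have o2 := h.out_spec (j := 2) (by norm_num) (show 2 < 4 by norm_num)
  have o3 := h.out_spec (j := 3) (by norm_num) (show 3 < 4 by norm_num)
  rw [← (hout 1 m1 2 m2).1] at o2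
  rw [← (hout 1 m1 3 m3).1] at o3
  have e12 := (h.of_out_eq le_rfl (by norm_num) (by norm_num) (by norm_num)
    (by norm_num : (1 : ℕ) ≠ 2) (hout 1 m1 2 m2).1).2
  have e13 := (h.of_out_eq le_rfl (by norm_num) (by norm_num) (by norm_num)
    (by norm_num : (1 : ℕ) ≠ 3) (hout 1 m1 3 m3).1).2
  rw [← (hout 1 m1 2 m2).1] at e12
  rw [← (hout 1 m1 3 m3).1] at e13
  have huniv : (univ : Finset ι) = {p, q, s, t, g} := by
    refine (eq_univ_of_forall fun χ => ?_).symm
    by_cases hχ : χ ∈ h.T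
    · rw [hT] at hχ
      simp only [mem_insert, mem_singleton] at hχ ⊢
      rcases hχ with e | e | e | e
      · exact Or.inl e
      · exact Or.inr (Or.inl e)
      · exact Or.inr (Or.inr (Or.inl e))
      · exact Or.inr (Or.inr (Or.inr (Or.inl e)))
    · obtain ⟨j, hj, rfl⟩ := h.exists_out hχ
      simp only [mem_insert, mem_singleton]
      exact Or.inr (Or.inr (Or.inr (Or.inr ((hout j hj 1 m1).1))))
  have hmem : ∀ χ ∈ ({p, q, s, t} : Finset ι), χ ∈ h.T := fun χ hχ => hT ▸ hχ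
  have Tp := hmem p (by simp)
  have Tq := hmem q (by simp)
  have Ts := hmem s (by simp)
  have Tt := hmem t (by simp)
  have hgne : ∀ χ ∈ h.T, χ ≠ g := fun χ hχ (e : χ = g) => o1.1 (by subst e; exact hχ)
  have hsum : ∀ F : ι → ℂ, ∑ χ, F χ = F p + F q + F s + F t + F g := fun F => by
    rw [huniv, sum_insert (by simp [hpq, hps, hpt, hgne p Tp]),
      sum_insert (by simp [hqs, hqt, hgne q Tq]), sum_insert (by simp [hst, hgne s Ts]),
      sum_pair (hgne t Tt)]
    ring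
  have g4 : w 4 g = 0 := not_not.mp (mt h.mem_T.mpr o1.1)
  have sq : ∀ χ ∈ h.T, ((w 4 χ : ℂ)) ^ 2 = 1 := fun χ hχ => by
    rw [sq, ← Int.cast_mul, h.sq_T hχ, Int.cast_one]
  have v1 : ∀ χ ∈ h.T, w 1 χ = if χ ∈ ({p, q} : Finset ι) then w 4 χ else 0 := hP1 ▸ s1.2.1
  have v3 : ∀ χ ∈ h.T, w 3 χ = if χ ∈ ({p, s} : Finset ι) then w 4 χ else 0 := hP3 ▸ s3.2.1
  have r4 := hrel 4 (by norm_num) le_rfl
  have r1 := hrel 1 le_rfl (by norm_num)
  have r2 := hrel 2 (by norm_num) (by norm_num)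
  have r3 := hrel 3 (by norm_num) (by norm_num)
  have e2g : w 2 g = w 1 g := e12.symm
  have e3g : w 3 g = w 1 g := e13.symm
  simp only [hsum, g4, e2g, e3g, v1 p Tp, v1 q Tq, v1 s Ts, v1 t Tt, v3 p Tp, v3 q Tq,
    v3 s Ts, v3 t Tt, mem_insert, mem_singleton, hpq, hps, hpt, hqs, hqt, hst, hpq.symm, hps.symm,
    hpt.symm, hqs.symm, hqt.symm, hst.symm, or_false, false_or, if_true, if_false, Int.cast_zero,
    zero_mul, add_zero] at r4 r1 r2 r3 ⊢
  -- the two possibilities for the middle pair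
  have h12 := (hout 1 m1 2 m2).2 (by norm_num)
  have h32 := (hout 3 m3 2 m2).2 (by norm_num)
  rw [hP1] at h12
  rw [hP3] at h32
  refine ⟨q, Tq, ?_⟩
  have haq : (w 4 q : ℂ) = 1 ∨ (w 4 q : ℂ) = -1 := by
    rcases h.wm_pm q with e | e | e
    · exact absurd e (h.mem_T.mp Tq)
    · left; rw [e, Int.cast_one]
    · right; rw [e, Int.cast_neg, Int.cast_one]
  by_cases hp2 : p ∈ h.P 2
  · have hq2 : q ∉ h.P 2 := fun hq => by
      have : ({p, q} : Finset ι) ∩ h.P 2 = {p, q} := inter_eq_left.mpr (by simp [insert_subset_iff, hp2, hq])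
      rw [this, card_pair hpq] at h12; omega
    have hs2 : s ∉ h.P 2 := fun hs => by
      have : ({p, s} : Finset ι) ∩ h.P 2 = {p, s} := inter_eq_left.mpr (by simp [insert_subset_iff, hp2, hs])
      rw [this, card_pair hps] at h32; omega
    have ht2 : t ∈ h.P 2 := by
      by_contra ht
      have : h.P 2 ⊆ {p} := fun χ hχ => by
        have := h.P_subset 2 hχ
        rw [hT] at this
        simp only [mem_insert, mem_singleton] at this ⊢
        rcases this with rfl | rfl | rfl | rfl <;> first | rfl | contradiction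
      have := card_le_card this
      rw [s2.1, card_singleton] at this; omega
    simp only [s2.2.1 p Tp, s2.2.1 q Tq, s2.2.1 s Ts, s2.2.1 t Tt, hp2, hq2, hs2, ht2, if_true,
      if_false, Int.cast_zero, zero_mul, add_zero] at r2 ⊢
    refine ⟨-(w 4 q : ℂ), haq.elim (fun e => Or.inr (by rw [e])) (fun e => Or.inl (by rw [e]; norm_num)), ?_⟩
    have := star_sum hr (sq p Tp) (sq q Tq) (sq s Ts) (sq t Tt) (hd p) (hd q) (hd s) (hd t)
      (σ := (w 1 g : ℂ)) (dg := d g) (by linear_combination r4) (by linear_combination r1)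
      (by linear_combination r2) (by linear_combination r3)
    linear_combination this
  · have hq2 : q ∈ h.P 2 := by
      by_contra hq
      have : ({p, q} : Finset ι) ∩ h.P 2 = ∅ := eq_empty_of_forall_notMem fun χ hχ => by
        simp only [mem_inter, mem_insert, mem_singleton] at hχ
        rcases hχ.1 with rfl | rfl <;> exact absurd hχ.2 (by assumption)
      rw [this, card_empty] at h12; omega
    have hs2 : s ∈ h.P 2 := by
      by_contra hs
      have : ({p, s} : Finset ι) ∩ h.P 2 = ∅ := eq_empty_of_forall_notMem fun χ hχ => by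
        simp only [mem_inter, mem_insert, mem_singleton] at hχ
        rcases hχ.1 with rfl | rfl <;> exact absurd hχ.2 (by assumption)
      rw [this, card_empty] at h32; omega
    have ht2 : t ∉ h.P 2 := fun ht => by
      have : ({q, s, t} : Finset ι) ⊆ h.P 2 := by simp [insert_subset_iff, hq2, hs2, ht]
      have := card_le_card this
      rw [s2.1, card_eq_three.mpr ⟨q, s, t, hqs, hqt, hst, rfl⟩] at this; omega
    simp only [s2.2.1 p Tp, s2.2.1 q Tq, s2.2.1 s Ts, s2.2.1 t Tt, hp2, hq2, hs2, ht2, if_true,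
      if_false, Int.cast_zero, zero_mul, add_zero, zero_add] at r2 ⊢
    refine ⟨(w 4 q : ℂ), haq, ?_⟩
    have := triangle_sum hr (sq p Tp) (sq q Tq) (sq s Ts) (sq t Tt) (hd p) (hd q) (hd s) (hd t)
      (σ := (w 1 g : ℂ)) (dg := d g) (by linear_combination r4) (by linear_combination r1)
      (by linear_combination r2) (by linear_combination r3)
    linear_combination this

end Cfsg.Agent.Lib.DihedralDefect.Comb
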